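import Mathlib

/-!
# S5539: counting in an orthogonal space of plus type of dimension 8 over the field of two elements (helper18)

`A` of order 256 with a nondegenerate quadratic form, 135 totally singular subgroups `M i` of order 16 such that
`|M i ∩ M j| ≤ 4` for `i ≠ j`, every `M i` has a complement `M j`, and a nonzero element is in at most 15 of them.
Then a nonzero singular element is in 15 of them, and two distinct orthogonal singular elements are in 3 of them.
-/

set_option autoImplicit false
set_option linter.unusedSectionVars false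

namespace Cfsg.Agent.R2.M7.Count

open Finset

variable {A ι : Type*} [AddCommGroup A] [Fintype A] [Fintype ι]

open Classical in
/-- the elements of a subgroup killed by a functional -/
theorem half (M : AddSubgroup A) (f : A →+ ZMod 2) (h : ∃ x ∈ M, f x ≠ 0) :
    2 * (univ.filter fun x => x ∈ M ∧ f x = 0).card = (univ.filter fun x => x ∈ M).card := by
  obtain ⟨x₀, hx₀, h0⟩ := h
  have h1 : f x₀ = 1 := by
    generalize f x₀ = a at h0
    revert a; decide
  have h2 : (univ.filter fun x => x ∈ M).card = (univ.filter fun x => x ∈ M ∧ f x = 0).card +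
      (univ.filter fun x => x ∈ M ∧ ¬ f x = 0).card := by
    rw [← Finset.card_union_of_disjoint]
    · congr 1
      ext x
      simp only [mem_filter, mem_univ, true_and, mem_union]
      tauto
    · rw [Finset.disjoint_left]
      intro x hx hx'
      simp only [mem_filter, mem_univ, true_and] at hx hx'
      exact hx'.2 hx.2
  have h3 : (univ.filter fun x => x ∈ M ∧ ¬ f x = 0).card = (univ.filter fun x => x ∈ M ∧ f x = 0).card := by
    apply Finset.card_bij (fun x _ => x + x₀)
    · intro x hx
      simp only [mem_filter, mem_univ, true_and] at hx ⊢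
      refine ⟨M.add_mem hx.1 hx₀, ?_⟩
      rw [map_add, h1]
      have := hx.2
      generalize f x = a at this
      revert a; decide
    · intro x _ y _ hxy
      exact add_right_cancel hxy
    · intro y hy
      simp only [mem_filter, mem_univ, true_and] at hy
      refine ⟨y - x₀, ?_, by abel⟩
      simp only [mem_filter, mem_univ, true_and]
      refine ⟨M.sub_mem hy.1 hx₀, ?_⟩
      rw [map_sub, h1, hy.2]
      decide
  omega

/-- the hypotheses -/
structure Fam (q : A → ZMod 2) (b : A →+ A →+ ZMod 2) (M : ι → AddSubgroup A) : Prop where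
  cardA : Fintype.card A = 256
  quad : ∀ x y, q (x + y) = q x + q y + b x y
  nondeg : ∀ x, (∀ y, b x y = 0) → x = 0
  cardι : Fintype.card ι = 135
  cardM : ∀ i, Nat.card (M i) = 16
  sing : ∀ i, ∀ x ∈ M i, q x = 0
  opp : ∀ i, ∃ j, M i ⊓ M j = ⊥
  inter : ∀ i j, i ≠ j → Nat.card (M i ⊓ M j : AddSubgroup A) ≤ 4

variable {q : A → ZMod 2} {b : A →+ A →+ ZMod 2} {M : ι → AddSubgroup A} (F : Fam q b M)

open Classical in
theorem card_filter (N : AddSubgroup A) : (univ.filter fun x => x ∈ N).card = Nat.card N := by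
  rw [Nat.card_eq_fintype_card, Fintype.card_subtype]

include F

theorem b_symm (x y : A) : b x y = b y x := by
  have h1 := F.quad x y
  have h2 := F.quad y x
  rw [add_comm y x, h1] at h2
  generalize b x y = u at h2 ⊢
  generalize b y x = v at h2 ⊢
  generalize q x = c at h2
  generalize q y = d at h2
  revert u v c d; decide

theorem b_zero_of {i : ι} {x y : A} (hx : x ∈ M i) (hy : y ∈ M i) : b x y = 0 := by
  have h1 := F.quad x y
  rw [F.sing i _ ((M i).add_mem hx hy), F.sing i _ hx, F.sing i _ hy] at h1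
  simpa using h1.symm

/-- the decomposition -/
theorem decomp {i j : ι} (hij : M i ⊓ M j = ⊥) (a : A) : ∃ x ∈ M i, ∃ y ∈ M j, x + y = a := by
  let f : M i × M j → A := fun p => (p.1 : A) + p.2
  have hf : Function.Injective f := by
    rintro ⟨x, y⟩ ⟨x', y'⟩ h
    have h1 : (x : A) + y = x' + y' := h
    have h2 : (x : A) - x' = y' - y := by
      rw [sub_eq_sub_iff_add_eq_add, h1, add_comm]
    have h3 : (x : A) - x' ∈ M i ⊓ M j := ⟨(M i).sub_mem x.2 x'.2, h2 ▸ (M j).sub_mem y'.2 y.2⟩
    rw [hij, AddSubgroup.mem_bot] at h3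
    have h4 : x = x' := Subtype.ext (sub_eq_zero.1 h3)
    rw [h3] at h2
    have h5 : y = y' := Subtype.ext (sub_eq_zero.1 h2.symm).symm
    rw [h4, h5]
  have hcard : Nat.card (M i × M j) = Nat.card A := by
    rw [Nat.card_prod, F.cardM, F.cardM, Nat.card_eq_fintype_card, F.cardA]
  have hb := (Nat.bijective_iff_injective_and_card f).2 ⟨hf, hcard⟩
  obtain ⟨⟨x, y⟩, h⟩ := hb.2 a
  exact ⟨x, x.2, y, y.2, h⟩

omit F in
theorem decomp_inj {i j : ι} (hij : M i ⊓ M j = ⊥) {x x' y y' : A} (hx : x ∈ M i) (hx' : x' ∈ M i) (hy : y ∈ M j)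
    (hy' : y' ∈ M j) (h : x + y = x' + y') : x = x' ∧ y = y' := by
  have h2 : x - x' = y' - y := by rw [sub_eq_sub_iff_add_eq_add, h, add_comm]
  have h3 : x - x' ∈ M i ⊓ M j := ⟨(M i).sub_mem hx hx', h2 ▸ (M j).sub_mem hy' hy⟩
  rw [hij, AddSubgroup.mem_bot] at h3
  rw [h3] at h2
  exact ⟨sub_eq_zero.1 h3, (sub_eq_zero.1 h2.symm).symm⟩

theorem pair_ne {i j : ι} (hij : M i ⊓ M j = ⊥) {y : A} (hy : y ∈ M j) (hy0 : y ≠ 0) : ∃ x ∈ M i, b y x ≠ 0 := by
  by_contra hno
  push Not at hno
  apply hy0
  apply F.nondeg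
  intro a
  obtain ⟨x, hx, y', hy', rfl⟩ := decomp F hij a
  rw [map_add, hno x hx, b_zero_of F hy hy', add_zero]

open Classical in
/-- a weighted count over pairs: `S` a set of elements `y` of `M j` containing 0 -/
theorem count_pairs {i j : ι} (hij : M i ⊓ M j = ⊥) (P : A → Prop) (hP : P 0) (k : ℕ)
    (hk : (univ.filter fun y => y ∈ M j ∧ P y).card = k + 1) :
    (univ.filter fun a => ∃ x ∈ M i, ∃ y ∈ M j, P y ∧ b y x = 0 ∧ x + y = a).card = 16 + 8 * k := by
  have h1 : (univ.filter fun a => ∃ x ∈ M i, ∃ y ∈ M j, P y ∧ b y x = 0 ∧ x + y = a) =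
      (univ.filter fun y => y ∈ M j ∧ P y).biUnion
        (fun y => (univ.filter fun x => x ∈ M i ∧ b y x = 0).image (· + y)) := by
    ext a
    simp only [mem_filter, mem_univ, true_and, mem_biUnion, mem_image]
    constructor
    · rintro ⟨x, hx, y, hy, hp, h0, rfl⟩
      exact ⟨y, ⟨hy, hp⟩, x, ⟨hx, h0⟩, rfl⟩
    · rintro ⟨y, ⟨hy, hp⟩, x, ⟨hx, h0⟩, rfl⟩
      exact ⟨x, hx, y, hy, hp, h0, rfl⟩
  rw [h1, Finset.card_biUnion]
  · have h2 : ∀ y ∈ univ.filter (fun y => y ∈ M j ∧ P y),
        ((univ.filter fun x => x ∈ M i ∧ b y x = 0).image (· + y)).card = if y = 0 then 16 else 8 := by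
      intro y hy
      simp only [mem_filter, mem_univ, true_and] at hy
      rw [Finset.card_image_of_injective _ (add_left_injective y)]
      split_ifs with h0
      · subst h0
        have : (univ.filter fun x => x ∈ M i ∧ b 0 x = 0) = univ.filter fun x => x ∈ M i := by
          ext x
          simp
        rw [this, card_filter, F.cardM]
      · have h3 := half (M i) (b y) (pair_ne F hij hy.1 h0)
        rw [card_filter, F.cardM] at h3
        omega
    rw [Finset.sum_congr rfl h2, Finset.sum_ite]
    have h3 : (univ.filter fun y => y ∈ M j ∧ P y).filter (fun y => y = 0) = {0} := by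
      ext y
      simp only [mem_filter, mem_univ, true_and, mem_singleton]
      constructor
      · exact fun h => h.2
      · rintro rfl
        exact ⟨⟨(M j).zero_mem, hP⟩, rfl⟩
    have h4 := Finset.card_filter_add_card_filter_not (s := univ.filter fun y => y ∈ M j ∧ P y) (fun y => y = 0)
    rw [h3, hk, Finset.card_singleton] at h4
    rw [h3]
    simp only [Finset.sum_const, Finset.card_singleton, smul_eq_mul, one_mul]
    omega
  · intro y hy y' hy' hne
    rw [Function.onFun, Finset.disjoint_left]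
    intro a ha ha'
    simp only [mem_filter, mem_univ, true_and, mem_image, Finset.coe_filter, Set.mem_setOf_eq] at hy hy' ha ha'
    obtain ⟨x, ⟨hx, -⟩, rfl⟩ := ha
    obtain ⟨x', ⟨hx', -⟩, h⟩ := ha'
    exact hne (decomp_inj hij hx' hx hy'.1 hy.1 h).2.symm

open Classical in
/-- the number of singular elements -/
theorem card_sing : (univ.filter fun a => a ≠ 0 ∧ q a = 0).card = 135 := by
  have hι : Nonempty ι := by
    rw [← Fintype.card_pos_iff, F.cardι]; norm_num
  obtain ⟨i⟩ := hι
  obtain ⟨j, hij⟩ := F.opp i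
  have h1 := count_pairs F hij (fun _ => True) trivial 15 (by
    have := card_filter (M j)
    rw [F.cardM] at this
    convert this using 2
    ext x
    simp)
  have h2 : (univ.filter fun a => ∃ x ∈ M i, ∃ y ∈ M j, True ∧ b y x = 0 ∧ x + y = a) =
      insert 0 (univ.filter fun a => a ≠ 0 ∧ q a = 0) := by
    ext a
    simp only [mem_filter, mem_univ, true_and, mem_insert]
    have hq0 : q 0 = 0 := F.sing i 0 (M i).zero_mem
    constructor
    · rintro ⟨x, hx, y, hy, h0, rfl⟩
      by_cases h : x + y = 0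
      · exact Or.inl h
      · refine Or.inr ⟨h, ?_⟩
        rw [F.quad, F.sing i x hx, F.sing j y hy, b_symm F, h0]; rfl
    · intro h
      have hqa : q a = 0 := by
        rcases h with rfl | h
        · exact hq0
        · exact h.2
      obtain ⟨x, hx, y, hy, rfl⟩ := decomp F hij a
      refine ⟨x, hx, y, hy, ?_, rfl⟩
      rw [F.quad, F.sing i x hx, F.sing j y hy, zero_add, zero_add, b_symm F] at hqa
      exact hqa
  have h1' : (insert 0 (univ.filter fun a => a ≠ 0 ∧ q a = 0)).card = 16 + 8 * 15 := by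
    rw [← h2]; convert h1
  rw [Finset.card_insert_of_notMem (by simp)] at h1'
  omega

open Classical in
/-- the number of singular elements orthogonal to a singular element -/
theorem card_perp {i : ι} {s : A} (hs : s ∈ M i) (hs0 : s ≠ 0) :
    (univ.filter fun a => a ≠ 0 ∧ a ≠ s ∧ q a = 0 ∧ b s a = 0).card = 70 := by
  obtain ⟨j, hij⟩ := F.opp i
  have hji : M j ⊓ M i = ⊥ := by rw [inf_comm]; exact hij
  have h8 := half (M j) (b s) (pair_ne F hji hs hs0)
  rw [card_filter, F.cardM] at h8
  have h1 := count_pairs F hij (fun y => b s y = 0) (map_zero _) 7 (by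
    have h9 : (univ.filter fun y => y ∈ M j ∧ b s y = 0).card = 8 := by omega
    convert h9)
  have h2 : (univ.filter fun a => ∃ x ∈ M i, ∃ y ∈ M j, b s y = 0 ∧ b y x = 0 ∧ x + y = a) =
      insert 0 (insert s (univ.filter fun a => a ≠ 0 ∧ a ≠ s ∧ q a = 0 ∧ b s a = 0)) := by
    ext a
    simp only [mem_filter, mem_univ, true_and, mem_insert]
    have key : (q a = 0 ∧ b s a = 0) ↔ ∃ x ∈ M i, ∃ y ∈ M j, b s y = 0 ∧ b y x = 0 ∧ x + y = a := by
      constructor
      · rintro ⟨hqa, hba⟩
        obtain ⟨x, hx, y, hy, rfl⟩ := decomp F hij a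
        refine ⟨x, hx, y, hy, ?_, ?_, rfl⟩
        · rw [map_add, b_zero_of F hs hx, zero_add] at hba
          exact hba
        · rw [F.quad, F.sing i x hx, F.sing j y hy, zero_add, zero_add, b_symm F] at hqa
          exact hqa
      · rintro ⟨x, hx, y, hy, h0, h1, rfl⟩
        refine ⟨?_, ?_⟩
        · rw [F.quad, F.sing i x hx, F.sing j y hy, b_symm F, h1]; rfl
        · rw [map_add, b_zero_of F hs hx, h0, add_zero]
    rw [← key]
    constructor
    · intro h
      by_cases h0 : a = 0
      · exact Or.inl h0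
      · by_cases h0s : a = s
        · exact Or.inr (Or.inl h0s)
        · exact Or.inr (Or.inr ⟨h0, h0s, h.1, h.2⟩)
    · rintro (rfl | rfl | h)
      · exact ⟨F.sing i 0 (M i).zero_mem, map_zero _⟩
      · exact ⟨F.sing i _ hs, b_zero_of F hs hs⟩
      · exact ⟨h.2.2.1, h.2.2.2⟩
  have h1' : (insert 0 (insert s (univ.filter fun a => a ≠ 0 ∧ a ≠ s ∧ q a = 0 ∧ b s a = 0))).card = 16 + 8 * 7 := by
    rw [← h2]; convert h1
  rw [Finset.card_insert_of_notMem (by simp [hs0.symm]), Finset.card_insert_of_notMem (by simp)] at h1'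
  omega

open Classical in
/-- **(K3)** -/
theorem card_mem (h15 : ∀ a : A, a ≠ 0 → (univ.filter fun i => a ∈ M i).card ≤ 15) {a : A} (ha : a ≠ 0) (hq : q a = 0) :
    (univ.filter fun i => a ∈ M i).card = 15 := by
  -- double counting
  have h1 : ∑ a ∈ univ.filter (fun a => a ≠ 0 ∧ q a = 0), (univ.filter fun i => a ∈ M i).card = 135 * 15 := by
    have h2 : ∀ a : A, (univ.filter fun i => a ∈ M i).card = ∑ i : ι, if a ∈ M i then 1 else 0 := by
      intro a
      rw [Finset.card_filter]
    simp only [h2]
    rw [Finset.sum_comm]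
    have h3 : ∀ i ∈ (univ : Finset ι), ∑ a ∈ univ.filter (fun a => a ≠ 0 ∧ q a = 0), (if a ∈ M i then 1 else 0) = 15 := by
      intro i _
      rw [← Finset.card_filter, Finset.filter_filter]
      have h4 : (univ.filter fun x => x ∈ M i) =
          insert 0 (univ.filter fun a => (a ≠ 0 ∧ q a = 0) ∧ a ∈ M i) := by
        ext x
        simp only [mem_filter, mem_univ, true_and, mem_insert]
        constructor
        · intro hx
          by_cases h0 : x = 0
          · exact Or.inl h0
          · exact Or.inr ⟨⟨h0, F.sing i x hx⟩, hx⟩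
        · rintro (rfl | h)
          · exact (M i).zero_mem
          · exact h.2
      have h5 := card_filter (M i)
      rw [F.cardM, h4, Finset.card_insert_of_notMem (by simp)] at h5
      omega
    rw [Finset.sum_congr rfl h3, Finset.sum_const, Finset.card_univ, F.cardι]
    rfl
  by_contra hne
  have hlt : (univ.filter fun i => a ∈ M i).card < 15 := lt_of_le_of_ne (h15 a ha) hne
  have h2 : ∑ a ∈ univ.filter (fun a => a ≠ 0 ∧ q a = 0), (univ.filter fun i => a ∈ M i).card <
      ∑ a ∈ univ.filter (fun a : A => a ≠ 0 ∧ q a = 0), 15 := by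
    apply Finset.sum_lt_sum
    · intro x hx
      simp only [mem_filter, mem_univ, true_and] at hx
      exact h15 x hx.1
    · exact ⟨a, by simp [ha, hq], hlt⟩
  rw [h1, Finset.sum_const, card_sing F] at h2
  norm_num at h2

open Classical in
/-- **(K4)** -/
theorem card_mem_two (h15 : ∀ a : A, a ≠ 0 → (univ.filter fun i => a ∈ M i).card ≤ 15) {s t : A} (hs : s ≠ 0)
    (hqs : q s = 0) (ht : t ≠ 0) (hqt : q t = 0) (hst : s ≠ t) (hb : b s t = 0) :
    (univ.filter fun i => s ∈ M i ∧ t ∈ M i).card = 3 := by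
  have hs15 := card_mem F h15 hs hqs
  set I : Finset ι := univ.filter fun i => s ∈ M i with hI
  set S : Finset A := univ.filter fun a => a ≠ 0 ∧ a ≠ s ∧ q a = 0 ∧ b s a = 0 with hS
  have hI0 : I.Nonempty := by
    rw [← Finset.card_pos, hs15]; norm_num
  obtain ⟨i₀, hi₀⟩ := hI0
  have hsi₀ : s ∈ M i₀ := (Finset.mem_filter.1 hi₀).2
  have hS70 : S.card = 70 := card_perp F hsi₀ hs
  -- the numbers
  let n : A → ℕ := fun a => (I.filter fun i => a ∈ M i).card
  have hsub : ∀ i ∈ I, ∀ a, a ∈ M i → a ≠ 0 → a ≠ s → a ∈ S := by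
    intro i hi a ha h0 h1
    have hsi : s ∈ M i := (Finset.mem_filter.1 hi).2
    simp only [hS, mem_filter, mem_univ, true_and]
    exact ⟨h0, h1, F.sing i a ha, b_zero_of F hsi ha⟩
  have hcount : ∀ N : AddSubgroup A, s ∈ N → (∀ a ∈ N, a ≠ 0 → a ≠ s → a ∈ S) →
      (S.filter fun a => a ∈ N).card + 2 = Nat.card N := by
    intro N hN hNS
    have h4 : (univ.filter fun x => x ∈ N) = insert 0 (insert s (S.filter fun a => a ∈ N)) := by
      ext x
      simp only [mem_filter, mem_univ, true_and, mem_insert]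
      constructor
      · intro hx
        by_cases h0 : x = 0
        · exact Or.inl h0
        · by_cases h1 : x = s
          · exact Or.inr (Or.inl h1)
          · exact Or.inr (Or.inr ⟨hNS x hx h0 h1, hx⟩)
      · rintro (rfl | rfl | h)
        · exact N.zero_mem
        · exact hN
        · exact h.2
    rw [← card_filter, h4, Finset.card_insert_of_notMem (by simp [hs.symm, hS]),
      Finset.card_insert_of_notMem (by simp [hS])]
  have e1 : ∑ a ∈ S, n a = 210 := by
    have h2 : ∀ a : A, n a = ∑ i ∈ I, if a ∈ M i then 1 else 0 := by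
      intro a
      rw [← Finset.card_filter]
    simp only [h2]
    rw [Finset.sum_comm]
    have h3 : ∀ i ∈ I, ∑ a ∈ S, (if a ∈ M i then 1 else 0) = 14 := by
      intro i hi
      rw [← Finset.card_filter]
      have := hcount (M i) (Finset.mem_filter.1 hi).2 (hsub i hi)
      rw [F.cardM] at this
      omega
    rw [Finset.sum_congr rfl h3, Finset.sum_const, hs15]
    rfl
  have e2 : ∑ a ∈ S, n a * n a ≤ 630 := by
    have h2 : ∀ a : A, n a * n a = ∑ i ∈ I, ∑ j ∈ I, if a ∈ M i ∧ a ∈ M j then 1 else 0 := by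
      intro a
      have : n a = ∑ i ∈ I, if a ∈ M i then 1 else 0 := by rw [← Finset.card_filter]
      rw [this, Finset.sum_mul_sum]
      apply Finset.sum_congr rfl
      intro i _
      apply Finset.sum_congr rfl
      intro j _
      by_cases h1 : a ∈ M i <;> by_cases h2 : a ∈ M j <;> simp [h1, h2]
    simp only [h2]
    rw [Finset.sum_comm]
    have h3 : ∀ i ∈ I, ∑ a ∈ S, ∑ j ∈ I, (if a ∈ M i ∧ a ∈ M j then 1 else 0) ≤ 42 := by
      intro i hi
      rw [Finset.sum_comm]
      have h4 : ∀ j ∈ I, ∑ a ∈ S, (if a ∈ M i ∧ a ∈ M j then 1 else 0) ≤ if j = i then 14 else 2 := by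
        intro j hj
        rw [← Finset.card_filter]
        have h5 := hcount (M i ⊓ M j) ⟨(Finset.mem_filter.1 hi).2, (Finset.mem_filter.1 hj).2⟩
          (fun a ha => hsub i hi a ha.1)
        have h6 : (S.filter fun a => a ∈ M i ⊓ M j) = S.filter fun a => a ∈ M i ∧ a ∈ M j := by
          ext a
          simp [AddSubgroup.mem_inf]
        rw [h6] at h5
        split_ifs with hji
        · subst hji
          rw [inf_idem, F.cardM] at h5
          omega
        · have := F.inter i j (Ne.symm hji)
          omega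
      refine (Finset.sum_le_sum h4).trans ?_
      rw [Finset.sum_ite, Finset.sum_const, Finset.sum_const]
      have h7 : (I.filter fun j => j = i) = {i} := by
        ext j
        simp only [mem_filter, mem_singleton]
        constructor
        · exact fun h => h.2
        · rintro rfl
          exact ⟨hi, rfl⟩
      have h8 := Finset.card_filter_add_card_filter_not (s := I) (fun j => j = i)
      rw [h7, hs15, Finset.card_singleton] at h8
      rw [h7, Finset.card_singleton]
      simp only [smul_eq_mul]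
      omega
    refine (Finset.sum_le_sum h3).trans ?_
    rw [Finset.sum_const, hs15]
    norm_num
  -- the variance
  have e3 : ∑ a ∈ S, ((n a : ℤ) - 3) ^ 2 ≤ 0 := by
    have h1 : ∀ a ∈ S, ((n a : ℤ) - 3) ^ 2 = (n a * n a : ℕ) - 6 * (n a : ℤ) + 9 := by
      intro a _
      push_cast
      ring
    rw [Finset.sum_congr rfl h1, Finset.sum_add_distrib, Finset.sum_sub_distrib, ← Finset.mul_sum, Finset.sum_const, hS70,
      ← Nat.cast_sum, ← Nat.cast_sum, e1]
    have : ((∑ a ∈ S, n a * n a : ℕ) : ℤ) ≤ 630 := by exact_mod_cast e2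
    norm_num
    linarith
  have htS : t ∈ S := by
    simp only [hS, mem_filter, mem_univ, true_and]
    exact ⟨ht, hst.symm, hqt, hb⟩
  have e4 : ((n t : ℤ) - 3) ^ 2 ≤ 0 :=
    (Finset.single_le_sum (f := fun a => ((n a : ℤ) - 3) ^ 2) (fun a _ => sq_nonneg _) htS).trans e3
  have e5 : (n t : ℤ) - 3 = 0 := by
    have := le_antisymm e4 (sq_nonneg _)
    exact pow_eq_zero_iff (two_ne_zero) |>.1 this
  have e6 : n t = 3 := by omega
  rw [← e6]
  show _ = (I.filter fun i => t ∈ M i).card
  rw [hI, Finset.filter_filter]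

end Cfsg.Agent.R2.M7.Count
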