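import Cfsg.Agent.R2.M7.MainC
import Cfsg.Agent.R2.H4.Mon.FactsAsm
import Cfsg.Agent.R2.H10.Mon.Asm
import Cfsg.Agent.R2.H10.Mon.TwoArk

/-!
# Assembly of S5539 (helper18): everything but `V_card`, `V_inter` and `MainB`
-/

set_option autoImplicit false

open Cfsg

namespace Cfsg.Agent.R2.M7.Final0

open Cfsg.Agent.MonsterU.Lam2 (L2)
open Cfsg.Agent.CoOneType.SignFacts
open Cfsg.Agent.MonsterU.Ch
open Cfsg.Agent.R2.H4.Mon
open Cfsg.Agent.R2.H4.Mon.Frm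
open Cfsg.Agent.R2.H4.Mon.GeoInst
open Cfsg.Agent.R2.M7
open Cfsg.Agent.R2.M7.Geo (cj CC)
open Cfsg.Spor (Co1)

/-- **S5539 from the missing pieces.** -/
theorem asm
    (hA : ∀ (o : golayCode) (_ : wt o = 8) (Q : Subgroup Spor.Monster) (z : Spor.Monster) (eta : Spor.Monster → L2)
      (pi : Subgroup.centralizer ({z} : Set Spor.Monster) →* Co1) (y τ : Spor.Monster) (F : Fr Q z eta pi y τ),
      TE F.ch τ → (geo F.ch o).ArkFacts)
    (hB : ∀ (o : golayCode) (_ : wt o = 8) (Q : Subgroup Spor.Monster) (z : Spor.Monster) (eta : Spor.Monster → L2)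
      (pi : Subgroup.centralizer ({z} : Set Spor.Monster) →* Co1) (y τ : Spor.Monster) (F : Fr Q z eta pi y τ),
      TE F.ch τ → (geo F.ch o).ArkFacts → (geo F.ch o).MainB) :
    ∃ S : Finset (Subgroup Cfsg.Spor.Monster), S.card = 7 ∧ (∀ H ∈ S, Cfsg.IsTwoLocal H) ∧
      ∀ H : Subgroup Cfsg.Spor.Monster, Cfsg.IsMaximalTwoLocal H →
        ∃ H₀ ∈ S, ∃ g : Cfsg.Spor.Monster, H = H₀.map (MulAut.conj g).toMonoidHom := by
  have := Cfsg.Agent.R2.H4.Mon.MonFr.finite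
  apply Cfsg.Agent.R2.H10.Mon.Asm.asm
  intro Q z eta pi y τ F₀
  obtain ⟨τ', F, hE⟩ := Fr.exists_TE F₀
  obtain ⟨o, ho⟩ := exists_octad
  have A := hA o ho Q z eta pi y τ' F hE
  exact ⟨geo F.ch o, fun c => Iff.rfl, MainCP.mainC (FactsAsm.facts' ho F A
    (Cfsg.Agent.R2.H10.Mon.TwoArk.twoArk ho F A)), hB o ho Q z eta pi y τ' F hE A⟩

end Cfsg.Agent.R2.M7.Final0
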